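import Mathlib.GroupTheory.Sylow
import Mathlib.GroupTheory.Frattini
import Mathlib.GroupTheory.Nilpotent
import Mathlib.GroupTheory.Commutator.Basic

/-!
# Squaring maps of 2-groups: sign characters and quadratic sums

`H` is a group, `M` a subgroup containing all squares, central, of exponent 2. For a homomorphism
`χ : M →* ℤˣ` the sum `∑ χ (x ^ 2)` has square `0` or `|H| * |R|`, `R` the radical.
-/

set_option autoImplicit false

open scoped Pointwise commutatorElement

namespace Cfsg.Agent.Lib.SquareMaps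

variable {H : Type*} [Group H]

/-- A commutator is a product of three squares. -/
theorem commutator_eq_squares (a b : H) : ⁅a, b⁆ = a ^ 2 * (a⁻¹ * b) ^ 2 * (b ^ 2)⁻¹ := by
  simp only [commutatorElement_def, pow_two]; group

theorem commutator_mem (M : Subgroup H) (hsq : ∀ x : H, x ^ 2 ∈ M) (a b : H) : ⁅a, b⁆ ∈ M := by
  rw [commutator_eq_squares]
  exact mul_mem (mul_mem (hsq _) (hsq _)) (inv_mem (hsq _))

theorem normal_of_sq_mem (M : Subgroup H) (hsq : ∀ x : H, x ^ 2 ∈ M) : M.Normal :=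
  ⟨fun m hm g => by
    have h : g * m * g⁻¹ = ⁅g, m⁆ * m := by simp only [commutatorElement_def]; group
    rw [h]; exact mul_mem (commutator_mem M hsq g m) hm⟩

/-- An element outside a subgroup containing all squares avoids some index-2 subgroup above it. -/
theorem exists_index_two [Finite H] {K : Subgroup H} (hsq : ∀ x : H, x ^ 2 ∈ K) {x : H} (hx : x ∉ K) :
    ∃ L : Subgroup H, K ≤ L ∧ IsCoatom L ∧ x ∉ L ∧ ∀ y, y ∉ L → x * y ∈ L := by
  obtain ⟨L, ⟨hKL, hxL⟩, hmax⟩ := ({L : Subgroup H | K ≤ L ∧ x ∉ L}.toFinite).exists_maximal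
    ⟨K, le_rfl, hx⟩
  have hLn := normal_of_sq_mem L (fun y => hKL (hsq y))
  have key : ∀ y, y ∉ L → x * y ∈ L := by
    intro y hy
    have hx' : x ∈ L ⊔ Subgroup.zpowers y := by
      by_contra h
      exact hy (hmax (y := L ⊔ Subgroup.zpowers y) ⟨hKL.trans le_sup_left, h⟩ le_sup_left
        (Subgroup.mem_sup_right (Subgroup.mem_zpowers y)))
    rw [← SetLike.mem_coe, Subgroup.normal_mul] at hx'
    obtain ⟨l, hl, z, ⟨i, rfl⟩, hlz⟩ := hx'
    rcases Int.even_or_odd i with ⟨j, rfl⟩ | ⟨j, rfl⟩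
    · exfalso
      apply hxL
      rw [← hlz]
      refine mul_mem hl ?_
      change y ^ (j + j) ∈ L
      rw [← two_mul, zpow_mul]
      exact Subgroup.zpow_mem L (by simpa using hKL (hsq y)) j
    · rw [← hlz]
      change l * y ^ (2 * j + 1) * y ∈ L
      rw [mul_assoc, ← zpow_add_one, show 2 * j + 1 + 1 = 2 * (j + 1) by ring, zpow_mul]
      exact mul_mem hl (Subgroup.zpow_mem L (by simpa using hKL (hsq y)) _)
  refine ⟨L, hKL, ⟨fun h => hxL (h ▸ Subgroup.mem_top x), fun J hJ => ?_⟩, hxL, key⟩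
  have hxJ : x ∈ J := by
    by_contra h
    exact hJ.not_ge (hmax ⟨hKL.trans hJ.le, h⟩ hJ.le)
  rw [Subgroup.eq_top_iff']
  intro y
  by_cases hy : y ∈ L
  · exact hJ.le hy
  · have := mul_mem (inv_mem hxJ) (hJ.le (key y hy))
    simpa using this

theorem frattini_le [Finite H] (K : Subgroup H) (hsq : ∀ x : H, x ^ 2 ∈ K) : frattini H ≤ K := by
  intro x hx
  by_contra h
  obtain ⟨L, -, hL, hxL, -⟩ := exists_index_two hsq h
  exact hxL (frattini_le_coatom hL hx)

theorem sq_mem_frattini [Finite H] (hH : IsPGroup 2 H) (x : H) : x ^ 2 ∈ frattini H := by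
  haveI : Fact (Nat.Prime 2) := ⟨Nat.prime_two⟩
  simp only [frattini, Order.radical, Subgroup.mem_iInf]
  intro L hL
  haveI := hH.isNilpotent
  haveI : L.Normal := Subgroup.NormalizerCondition.normal_of_coatom L Group.normalizerCondition_of_isNilpotent hL
  by_contra hx
  obtain ⟨n, hn⟩ := IsPGroup.iff_orderOf.1 hH x
  have htop : L ⊔ Subgroup.zpowers (x ^ 2) = ⊤ :=
    hL.2 _ (lt_of_le_of_ne le_sup_left fun h => hx (h ▸ Subgroup.mem_sup_right (Subgroup.mem_zpowers _)))
  -- `x ≡ (x ^ 2) ^ i`, so the image of `x` has odd order, hence is trivial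
  have hx' : x ∈ L ⊔ Subgroup.zpowers (x ^ 2) := htop ▸ Subgroup.mem_top x
  rw [← SetLike.mem_coe, Subgroup.normal_mul] at hx'
  obtain ⟨l, hl, z, ⟨i, rfl⟩, hlz⟩ := hx'
  set a : H ⧸ L := (x : H ⧸ L) with ha
  have h1 : a ^ (2 * i - 1) = 1 := by
    have h := congrArg (QuotientGroup.mk' L) hlz
    rw [map_mul, show QuotientGroup.mk' L l = 1 from (QuotientGroup.eq_one_iff l).2 hl, one_mul, map_zpow,
      map_pow, ← zpow_natCast, ← zpow_mul, Nat.cast_ofNat] at h
    rw [ha, zpow_sub, ← QuotientGroup.mk'_apply, h, zpow_one, mul_inv_cancel]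
  have h2 : orderOf a ∣ 2 ^ n := hn ▸ orderOf_map_dvd (QuotientGroup.mk' L) x
  have h3 : (orderOf a : ℤ) ∣ 2 * i - 1 := orderOf_dvd_iff_zpow_eq_one.2 h1
  obtain ⟨j, -, hj⟩ := (Nat.dvd_prime_pow Nat.prime_two).1 h2
  rcases j with _ | j
  · exact hx (Subgroup.pow_mem L ((QuotientGroup.eq_one_iff x).1 (orderOf_eq_one_iff.1 hj)) 2)
  · rw [hj, pow_succ] at h3
    push_cast at h3
    have h4 : (2 : ℤ) ∣ 2 * i - 1 := dvd_trans (dvd_mul_left 2 _) h3
    omega

/-! ### Sums of sign homomorphisms -/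

theorem sum_units_hom [Fintype H] (f : H →* ℤˣ) (hf : f ≠ 1) : ∑ x, (f x : ℤ) = 0 := by
  obtain ⟨a, ha⟩ : ∃ a, f a ≠ 1 := by
    by_contra h; push Not at h; exact hf (MonoidHom.ext h)
  have ha' : f a = -1 := (Int.units_eq_one_or (f a)).resolve_left ha
  have : ∑ x, (f x : ℤ) = -∑ x, (f x : ℤ) := by
    rw [← Finset.sum_neg_distrib]
    conv_lhs => rw [← Equiv.sum_comp (Equiv.mulLeft a)]
    simp [ha']
  omega

variable (M : Subgroup H)

/-- `x ↦ x ^ 2` into `M`. -/
def sq (hsq : ∀ x : H, x ^ 2 ∈ M) (x : H) : M := ⟨x ^ 2, hsq x⟩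

variable {M} (hsq : ∀ x : H, x ^ 2 ∈ M) (hcen : M ≤ Subgroup.center H) (hexp : ∀ m ∈ M, m ^ 2 = 1)

include hexp in
theorem inv_eq {m : H} (hm : m ∈ M) : m⁻¹ = m :=
  inv_eq_of_mul_eq_one_left (by rw [← pow_two]; exact hexp m hm)

include hcen in
/-- Left commutation map `y ↦ ⁅x, y⁆` into `M`. -/
def commHom (x : H) : H →* M where
  toFun y := ⟨⁅x, y⁆, commutator_mem M hsq x y⟩
  map_one' := by ext; simp
  map_mul' y z := by
    ext
    have h := Subgroup.mem_center_iff.1 (hcen (commutator_mem M hsq x z)) y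
    simp only [MulMemClass.mk_mul_mk, commutatorElement_def] at h ⊢
    calc x * (y * z) * x⁻¹ * (y * z)⁻¹ = x * y * x⁻¹ * (x * z * x⁻¹ * z⁻¹) * y⁻¹ := by group
      _ = x * y * x⁻¹ * y⁻¹ * (y * (x * z * x⁻¹ * z⁻¹)) * y⁻¹ := by group
      _ = _ := by rw [h]; group

include hexp in
theorem commHom_symm (x y : H) : commHom hsq hcen x y = commHom hsq hcen y x := by
  ext
  change ⁅x, y⁆ = ⁅y, x⁆
  rw [← commutatorElement_inv x y, inv_eq hexp (commutator_mem M hsq x y)]

include hexp in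
theorem sq_mul (x y : H) : sq M hsq (x * y) = sq M hsq x * sq M hsq y * commHom hsq hcen x y := by
  rw [commHom_symm hsq hcen hexp]
  ext
  change (x * y) ^ 2 = x ^ 2 * y ^ 2 * ⁅y, x⁆
  have h1 : ⁅y, x⁆ * x = x * ⁅y, x⁆ :=
    (Subgroup.mem_center_iff.1 (hcen (commutator_mem M hsq y x)) x).symm
  have h2 := Subgroup.mem_center_iff.1 (hcen (commutator_mem M hsq y x)) y
  calc (x * y) ^ 2 = x * (⁅y, x⁆ * x) * y * y := by simp only [pow_two, commutatorElement_def]; group
    _ = x * x * (y * ⁅y, x⁆) * y := by rw [h1, h2]; simp only [mul_assoc]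
    _ = x * x * y * (⁅y, x⁆ * y) := by simp only [mul_assoc]
    _ = x ^ 2 * y ^ 2 * ⁅y, x⁆ := by rw [← h2]; simp only [pow_two, mul_assoc]

/-- The radical of `χ`. -/
def radical (χ : M →* ℤˣ) : Subgroup H where
  carrier := {y | ∀ x, χ (commHom hsq hcen x y) = 1}
  one_mem' x := by simp
  mul_mem' {a b} ha hb x := by simp [ha x, hb x]
  inv_mem' {a} ha x := by simp [ha x]

theorem mem_radical {χ : M →* ℤˣ} {y : H} :
    y ∈ radical hsq hcen χ ↔ ∀ x, χ (commHom hsq hcen x y) = 1 := Iff.rfl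

theorem center_le_radical (χ : M →* ℤˣ) : Subgroup.center H ≤ radical hsq hcen χ := by
  intro y hy x
  have : commHom hsq hcen x y = 1 := by
    ext; exact commutatorElement_eq_one_iff_mul_comm.2 (Subgroup.mem_center_iff.1 hy x)
  rw [this, map_one]

/-- The quadratic sum of `χ`. -/
def qsum [Fintype H] (χ : M →* ℤˣ) : ℤ := ∑ x, (χ (sq M hsq x) : ℤ)

include hexp in
theorem qsum_sq [Fintype H] (χ : M →* ℤˣ) :
    qsum hsq χ = 0 ∨ qsum hsq χ ^ 2 = (Nat.card H * Nat.card (radical hsq hcen χ) : ℕ) := by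
  classical
  have hmain : qsum hsq χ ^ 2 =
      (Nat.card H : ℤ) * ∑ y : radical hsq hcen χ, (χ (sq M hsq (y : H)) : ℤ) := by
    have h1 : ∀ x y, (χ (sq M hsq x) : ℤ) * χ (sq M hsq (x * y)) =
        χ (sq M hsq y) * χ (commHom hsq hcen y x) := by
      intro x y
      rw [commHom_symm hsq hcen hexp y x, sq_mul hsq hcen hexp, ← Units.val_mul, ← Units.val_mul]
      congr 1
      rw [map_mul, map_mul, ← mul_assoc, ← mul_assoc, Int.units_mul_self, one_mul]
    have h2 : ∀ y, ∑ x, (χ (commHom hsq hcen y x) : ℤ) =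
        if y ∈ radical hsq hcen χ then (Nat.card H : ℤ) else 0 := by
      intro y
      split_ifs with hy
      · have : ∀ x, χ (commHom hsq hcen y x) = 1 := fun x => by
          rw [commHom_symm hsq hcen hexp]; exact hy x
        simp [this, Nat.card_eq_fintype_card]
      · apply sum_units_hom (χ.comp (commHom hsq hcen y))
        intro h
        apply hy
        intro x
        rw [commHom_symm hsq hcen hexp]
        exact DFunLike.congr_fun h x
    calc qsum hsq χ ^ 2 = ∑ x, ∑ y, (χ (sq M hsq x) : ℤ) * χ (sq M hsq (x * y)) := by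
          rw [pow_two, qsum, Finset.sum_mul]
          refine Finset.sum_congr rfl fun x _ => ?_
          rw [← Finset.mul_sum]
          congr 1
          exact (Equiv.sum_comp (Equiv.mulLeft x) (fun z => (χ (sq M hsq z) : ℤ))).symm
      _ = ∑ y, ∑ x, (χ (sq M hsq y) : ℤ) * χ (commHom hsq hcen y x) := by
          rw [Finset.sum_comm]; simp only [h1]
      _ = ∑ y, if y ∈ radical hsq hcen χ then (Nat.card H : ℤ) * χ (sq M hsq y) else 0 := by
          refine Finset.sum_congr rfl fun y _ => ?_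
          rw [← Finset.mul_sum, h2]
          split_ifs <;> ring
      _ = _ := by
          rw [← Finset.sum_filter, Finset.mul_sum]
          exact Finset.sum_subtype _ (fun y => by simp) _
  let f : radical hsq hcen χ →* ℤˣ :=
  { toFun := fun y => χ (sq M hsq y)
    map_one' := by rw [← map_one χ]; congr 1; ext; simp [sq]
    map_mul' := fun y z => by
      rw [Subgroup.coe_mul, sq_mul hsq hcen hexp, map_mul, map_mul, z.2 (y : H), mul_one] }
  by_cases hf : f = 1
  · right
    have : ∀ y : radical hsq hcen χ, χ (sq M hsq (y : H)) = 1 := fun y => DFunLike.congr_fun hf y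
    rw [hmain]
    simp [this, Nat.card_eq_fintype_card]
  · left
    have h0 := sum_units_hom f hf
    apply eq_zero_of_pow_eq_zero (n := 2)
    rw [hmain]
    exact mul_eq_zero_of_right _ h0

include hexp in
/-- Separation by sign homomorphisms. -/
theorem exists_sign_hom [Finite H] {m : M} (hm : m ≠ 1) : ∃ χ : M →* ℤˣ, χ m ≠ 1 := by
  classical
  have hsq' : ∀ x : M, x ^ 2 ∈ (⊥ : Subgroup M) := fun x => by
    rw [Subgroup.mem_bot]; ext; exact hexp x x.2
  obtain ⟨L, -, -, hmL, hL⟩ := exists_index_two hsq' (x := m) (by simpa using hm)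
  refine ⟨
  { toFun := fun y => if y ∈ L then 1 else -1
    map_one' := if_pos (one_mem L)
    map_mul' := fun y z => ?_ }, by simp [hmL]⟩
  by_cases hy : y ∈ L
  · simp [hy, L.mul_mem_cancel_left hy]
  · by_cases hz : z ∈ L
    · simp [hy, hz, L.mul_mem_cancel_right hz]
    · have h : y * z ∈ L := by
        have hn := normal_of_sq_mem L (fun x => by
          have h0 := hsq' x; rw [Subgroup.mem_bot] at h0; rw [h0]; exact one_mem L)
        have h1 := hn.mem_comm (hL y hy)
        have h2 := mul_mem h1 (hL z hz)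
        have h3 : y * m * (m * z) = y * z := by
          calc y * m * (m * z) = y * (m ^ 2) * z := by simp only [pow_two, mul_assoc]
            _ = y * z := by rw [Subgroup.mem_bot.1 (hsq' m), mul_one]
        rwa [h3] at h2
      simp [hy, hz, h]

include hexp in
theorem sum_hom_eq [Finite H] [Fintype (M →* ℤˣ)] [DecidableEq M] (m : M) :
    ∑ χ : M →* ℤˣ, (χ m : ℤ) = if m = 1 then (Fintype.card (M →* ℤˣ) : ℤ) else 0 := by
  split_ifs with hm
  · subst hm; simp
  · obtain ⟨ψ, hψ⟩ := exists_sign_hom hexp hm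
    let ev : (M →* ℤˣ) →* ℤˣ := MonoidHom.eval m
    exact sum_units_hom ev fun h => hψ (DFunLike.congr_fun h ψ)

end Cfsg.Agent.Lib.SquareMaps
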