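import Mathlib.GroupTheory.Commutator.Basic
import Mathlib.GroupTheory.Nilpotent
import Mathlib.Tactic.Group

/-!
# The Baer trick: a class two group with unique halves of commutators as an abelian group
-/

namespace Cfsg.Agent.Lib.SquareMaps

open scoped commutatorElement

universe u

/-- Central commutators, together with a half of every commutator. -/
structure BaerData (G : Type u) [Group G] where
  m : ℕ
  central : ∀ x y z : G, Commute z ⁅x, y⁆
  half : ∀ x y : G, ⁅x, y⁆ ^ m * ⁅x, y⁆ ^ m = ⁅x, y⁆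

variable {G : Type u} [Group G]

namespace BaerData

variable (D : BaerData G)

theorem comm_mul_right (D : BaerData G) (z x y : G) : ⁅z, x * y⁆ = ⁅z, x⁆ * ⁅z, y⁆ := by
  have h : ⁅z, x * y⁆ = ⁅z, x⁆ * (x * ⁅z, y⁆ * x⁻¹) := by
    simp only [commutatorElement_def]; group
  rw [h, (D.central z y x).eq, mul_inv_cancel_right]

theorem comm_mul_left (D : BaerData G) (x y z : G) : ⁅x * y, z⁆ = ⁅x, z⁆ * ⁅y, z⁆ := by
  rw [← commutatorElement_inv z (x * y), D.comm_mul_right, mul_inv_rev, commutatorElement_inv,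
    commutatorElement_inv, (D.central x z ⁅y, z⁆).eq]

theorem comm_right_pow (D : BaerData G) (z x y : G) (n : ℕ) : ⁅z, ⁅x, y⁆ ^ n⁆ = 1 :=
  commutatorElement_eq_one_iff_commute.mpr ((D.central x y z).pow_right n)

theorem comm_left_pow (D : BaerData G) (z x y : G) (n : ℕ) : ⁅⁅x, y⁆ ^ n, z⁆ = 1 :=
  commutatorElement_eq_one_iff_commute.mpr ((D.central x y z).pow_right n).symm

end BaerData

/-- The underlying type of the abelian group. -/
def Baer {G : Type u} [Group G] (_D : BaerData G) : Type u := G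

variable (D : BaerData G)

/-- The element of the Baer group. -/
def toBaer (x : G) : Baer D := x

/-- The element of the original group. -/
def ofBaer (x : Baer D) : G := x

theorem baer_op_assoc (x y z : G) :
    (x * y * ⁅y, x⁆ ^ D.m) * z * ⁅z, x * y * ⁅y, x⁆ ^ D.m⁆ ^ D.m =
      x * (y * z * ⁅z, y⁆ ^ D.m) * ⁅y * z * ⁅z, y⁆ ^ D.m, x⁆ ^ D.m := by
  rw [D.comm_mul_right, D.comm_mul_right, D.comm_right_pow, mul_one, D.comm_mul_left,
    D.comm_mul_left, D.comm_left_pow, mul_one, (D.central z y ⁅z, x⁆).mul_pow,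
    (D.central z x ⁅y, x⁆).mul_pow]
  have h1 : ⁅y, x⁆ ^ D.m * z = z * ⁅y, x⁆ ^ D.m := ((D.central y x z).pow_right _).eq.symm
  have h2 : ⁅y, x⁆ ^ D.m * ⁅z, x⁆ ^ D.m * ⁅z, y⁆ ^ D.m =
      ⁅z, y⁆ ^ D.m * ⁅y, x⁆ ^ D.m * ⁅z, x⁆ ^ D.m :=
    ((D.central z y (⁅y, x⁆ ^ D.m * ⁅z, x⁆ ^ D.m)).pow_right _).eq.trans (by rw [mul_assoc])
  calc x * y * ⁅y, x⁆ ^ D.m * z * (⁅z, x⁆ ^ D.m * ⁅z, y⁆ ^ D.m)
      = x * y * (⁅y, x⁆ ^ D.m * z) * (⁅z, x⁆ ^ D.m * ⁅z, y⁆ ^ D.m) := by simp only [mul_assoc]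
    _ = x * y * z * (⁅y, x⁆ ^ D.m * ⁅z, x⁆ ^ D.m * ⁅z, y⁆ ^ D.m) := by
        rw [h1]; simp only [mul_assoc]
    _ = _ := by rw [h2]; simp only [mul_assoc]

theorem baer_op_comm (x y : G) : x * y * ⁅y, x⁆ ^ D.m = y * x * ⁅x, y⁆ ^ D.m := by
  have h1 : x * y = ⁅x, y⁆ * (y * x) := by rw [commutatorElement_def]; group
  have h2 : ⁅x, y⁆ * (y * x) = y * x * ⁅x, y⁆ := (D.central x y (y * x)).eq.symm
  rw [h1, h2, mul_assoc (y * x), ← commutatorElement_inv x y, inv_pow]
  congr 1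
  rw [mul_inv_eq_iff_eq_mul]
  exact (D.half x y).symm

instance : CommGroup (Baer D) where
  mul x y := toBaer D (ofBaer D x * ofBaer D y * ⁅ofBaer D y, ofBaer D x⁆ ^ D.m)
  one := toBaer D 1
  inv x := toBaer D (ofBaer D x)⁻¹
  mul_assoc x y z := baer_op_assoc D x y z
  one_mul x := by
    show toBaer D (1 * ofBaer D x * ⁅ofBaer D x, (1 : G)⁆ ^ D.m) = x
    rw [commutatorElement_one_right, one_pow, mul_one, one_mul]
    rfl
  mul_one x := by
    show toBaer D (ofBaer D x * 1 * ⁅(1 : G), ofBaer D x⁆ ^ D.m) = x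
    rw [commutatorElement_one_left, one_pow, mul_one, mul_one]
    rfl
  inv_mul_cancel x := by
    show toBaer D ((ofBaer D x)⁻¹ * ofBaer D x * ⁅ofBaer D x, (ofBaer D x)⁻¹⁆ ^ D.m) = toBaer D 1
    rw [commutatorElement_eq_one_iff_commute.mpr (Commute.inv_right rfl), one_pow, mul_one,
      inv_mul_cancel]
  mul_comm x y := baer_op_comm D x y

@[simp] theorem ofBaer_one : ofBaer D 1 = 1 := rfl

theorem ofBaer_mul (x y : Baer D) :
    ofBaer D (x * y) = ofBaer D x * ofBaer D y * ⁅ofBaer D y, ofBaer D x⁆ ^ D.m := rfl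

theorem ofBaer_pow (x : Baer D) (n : ℕ) : ofBaer D (x ^ n) = ofBaer D x ^ n := by
  induction n with
  | zero => simp
  | succ n ih =>
    rw [pow_succ, ofBaer_mul, ih, commutatorElement_eq_one_iff_commute.mpr
      (Commute.self_pow _ n), one_pow, mul_one, pow_succ]

/-- Endomorphisms of the group act on the Baer group. -/
def baerMap (σ : G →* G) : Baer D →* Baer D where
  toFun x := toBaer D (σ (ofBaer D x))
  map_one' := by show toBaer D (σ 1) = toBaer D 1; rw [map_one]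
  map_mul' x y := by
    show toBaer D (σ (ofBaer D x * ofBaer D y * ⁅ofBaer D y, ofBaer D x⁆ ^ D.m)) = _
    rw [map_mul, map_mul, map_pow, map_commutatorElement]
    rfl

@[simp] theorem ofBaer_baerMap (σ : G →* G) (x : Baer D) :
    ofBaer D (baerMap D σ x) = σ (ofBaer D x) := rfl

instance [Finite G] : Finite (Baer D) := ‹Finite G›

theorem natCard_baer : Nat.card (Baer D) = Nat.card G := rfl

end Cfsg.Agent.Lib.SquareMaps
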